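/- helper555: lemma (T) for S3513, core -/
import Cfsg.Agent.H555.PSet.TBase
import Cfsg.Agent.H555.PSet.TLin
import Cfsg.Agent.H163.PG.Few

set_option autoImplicit false
set_option linter.unusedSectionVars false

namespace Cfsg.Agent.H555.PSet

open MulAction Equiv Equiv.Perm

universe u v

/-- a commutative finite simple group has an exponent that is prime -/
theorem exists_exponent {M : Type u} [Group M] [Finite M] (hs : IsSimpleGroup M)
    (hc : ∀ x y : M, x * y = y * x) : ∃ p : ℕ, p.Prime ∧ ∀ x : M, x ^ p = 1 := by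
  let _ : CommGroup M := { (inferInstance : Group M) with mul_comm := hc }
  exact ⟨Nat.card M, IsSimpleGroup.prime_card (α := M), fun x => pow_card_eq_one'⟩

theorem odd_of_mod {m : ℕ} (h : 2 ≡ 2 ^ m [MOD 3]) : Odd m := by
  rcases Nat.even_or_odd m with ⟨k, hk⟩ | h'
  · exfalso
    have h1 : 2 ^ m ≡ 1 [MOD 3] := by
      rw [hk, ← two_mul, pow_mul]
      have : 2 ^ 2 ≡ 1 [MOD 3] := rfl
      have h2 := this.pow k
      rwa [one_pow] at h2
    have h2 : 2 ≡ 1 [MOD 3] := h.trans h1
    revert h2; decide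
  · exact h'

theorem T_core {A : Type u} {Z : Type v} [Group A] [Finite A] [MulAction A Z] [FaithfulSMul A Z] [Finite Z]
    (hL1 : ∀ (M : Type u) [Group M] [Finite M] [IsSimpleGroup M], (∃ a b : M, a * b ≠ b * a) →
      ¬ 9 ∣ Nat.card M → ¬ 6 ∣ Nat.card (Cfsg.Out M))
    (J : Subgroup A) [J.Normal] (h2 : IsMultiplyPretransitive J Z 2) (hZ : 5 ≤ Nat.card Z) (h6 : 6 ∣ J.index)
    (h9 : ¬ 9 ∣ Nat.card J) (t : A) (ht3 : t ^ 3 = 1) (htf : Nat.card {z : Z // t • z = z} = 2) : False := by
  classical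
  have hnt : Nontrivial Z := by
    rw [← Finite.one_lt_card_iff_nontrivial]; omega
  have hJfaith : FaithfulSMul J Z := inferInstance
  have hJ1 : ∃ x : J, x ≠ 1 := by
    obtain ⟨a, b, hab⟩ := exists_pair_ne Z
    obtain ⟨g, hg, _⟩ := AltTwo.two_of h2 hab hab.symm
    exact ⟨g, fun h => hab (by rw [← hg, h, one_smul])⟩
  obtain ⟨N, hNn, hN1, hNm⟩ := exists_min_normal hJ1
  have hNt : IsPretransitive N Z := AltTwo.transitive_of_normal h2 N hN1
  let M : Subgroup A := N.map J.subtype
  have hMmem : ∀ x : A, x ∈ M ↔ ∃ n : N, ((n : J) : A) = x := by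
    intro x
    constructor
    · rintro ⟨n, hn, rfl⟩; exact ⟨⟨n, hn⟩, rfl⟩
    · rintro ⟨n, rfl⟩; exact ⟨n, n.2, rfl⟩
  have hMJ : M ≤ J := by
    intro x hx
    obtain ⟨n, rfl⟩ := (hMmem x).mp hx
    exact (n : J).2
  have hMn : ∀ j ∈ J, ∀ m ∈ M, j * m * j⁻¹ ∈ M := by
    rintro j hj m ⟨n, hn, rfl⟩
    exact ⟨⟨j, hj⟩ * n * ⟨j, hj⟩⁻¹, hNn.conj_mem n hn ⟨j, hj⟩, rfl⟩
  have hM1 : M ≠ ⊥ := by
    intro h
    apply hN1
    rw [eq_bot_iff]
    intro n hn
    have h1 : (n : A) ∈ M := ⟨n, hn, rfl⟩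
    rw [h, Subgroup.mem_bot] at h1
    rw [Subgroup.mem_bot]; exact Subtype.ext h1
  have hmin : ∀ K : Subgroup A, K ≤ M → (∀ j ∈ J, ∀ k ∈ K, j * k * j⁻¹ ∈ K) → K = ⊥ ∨ K = M := by
    intro K hK hKn
    have hKJ : K ≤ J := hK.trans hMJ
    rcases hNm (K.subgroupOf J) ⟨fun k hk j => hKn j j.2 k hk⟩ (by
      intro k hk
      have h1 : (k : A) ∈ M := hK hk
      obtain ⟨n, hn⟩ := (hMmem _).mp h1
      have : (n : J) = k := Subtype.ext hn
      rw [← this]; exact n.2) with h | h
    · left
      rw [eq_bot_iff]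
      intro k hk
      have h1 : (⟨k, hKJ hk⟩ : J) ∈ K.subgroupOf J := hk
      rw [h, Subgroup.mem_bot] at h1
      rw [Subgroup.mem_bot]; exact congrArg Subtype.val h1
    · right
      apply le_antisymm hK
      rintro _ ⟨n, hn, rfl⟩
      have h1 : n ∈ K.subgroupOf J := by rw [h]; exact hn
      exact h1
  have hfaithN : FaithfulSMul N Z := inferInstance
  -- the dichotomy
  have hdich : (∀ x y : N, x * y = y * x) ∧ (∃ p : ℕ, p.Prime ∧ ∀ x : N, x ^ p = 1) ∨
      ((∃ x y : N, x * y ≠ y * x) ∧ IsSimpleGroup N ∧ IsPreprimitive N Z) := by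
    rcases Cfsg.Agent.PermutationGroups.TwoTransitiveNormal.burnside_minimal_normal
      (G := J) (X := Z) (fun a b c d hab hcd => AltTwo.two_of h2 hab hcd) N hN1 hNm with ⟨h1, ⟨p, hp, h3⟩, _⟩ | ⟨h1, h3⟩
    · left
      exact ⟨fun x y => h1.is_comm.comm x y, p, hp, fun x => Subtype.ext (h3 x x.2)⟩
    · by_cases hc : ∀ x y : N, x * y = y * x
      · exact Or.inl ⟨hc, exists_exponent h1 hc⟩
      · push Not at hc
        exact Or.inr ⟨hc, h1, h3⟩
  have eN : N ≃* M := N.equivMapOfInjective J.subtype J.subtype_injective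
  have hcN : Nat.card N = Nat.card M := Nat.card_congr eN.toEquiv
  have hMdJ : Nat.card M ∣ Nat.card J := by rw [← hcN]; exact Subgroup.card_subgroup_dvd_card N
  rcases hdich with ⟨hcomm, p, hp, hpe⟩ | ⟨hna, hsim, hprim⟩
  · -- affine case
    have hMcomm : ∀ x ∈ M, ∀ y ∈ M, x * y = y * x := by
      rintro _ ⟨n, hn, rfl⟩ _ ⟨n', hn', rfl⟩
      exact congrArg (fun z : N => ((z : J) : A)) (hcomm ⟨n, hn⟩ ⟨n', hn'⟩)
    have hMp : ∀ x ∈ M, x ^ p = 1 := by
      rintro _ ⟨n, hn, rfl⟩
      exact congrArg (fun z : N => ((z : J) : A)) (hpe ⟨n, hn⟩)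
    have hMtr : ∀ a b : Z, ∃ m ∈ M, m • a = b := by
      intro a b
      obtain ⟨n, hn⟩ := exists_smul_eq N a b
      exact ⟨_, ⟨n, n.2, rfl⟩, hn⟩
    -- centralizer facts
    have hcfix : ∀ c : A, (∀ m ∈ M, c * m = m * c) → ∀ a : Z, c • a = a → c = 1 := by
      intro c hc a ha
      apply FaithfulSMul.eq_of_smul_eq_smul (α := Z)
      intro b
      obtain ⟨m, hm, rfl⟩ := hMtr a b
      rw [one_smul, ← mul_smul, hc m hm, mul_smul, ha]
    have hc : ∀ a : A, (∀ m ∈ M, a * m = m * a) → a ∈ M := by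
      intro a ha
      obtain ⟨z⟩ : Nonempty Z := inferInstance
      obtain ⟨m, hm, hmz⟩ := hMtr z (a • z)
      have h1 : m⁻¹ * a = 1 := by
        apply hcfix _ _ z
        · rw [mul_smul, ← hmz, inv_smul_smul]
        · intro m' hm'
          have h3 : m⁻¹ * m' = m' * m⁻¹ := hMcomm _ (M.inv_mem hm) _ hm'
          rw [mul_assoc, ha m' hm', ← mul_assoc, h3, mul_assoc]
      rw [inv_mul_eq_one] at h1
      rw [← h1]; exact hm
    have hMnormal : M.Normal := normal_of_min J M hMJ hMn hM1 hmin hc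
    have hMcard : Nat.card M = Nat.card Z := by
      obtain ⟨z⟩ : Nonempty Z := inferInstance
      rw [← hcN, comm_card hcomm z]
    -- a fixed point of t
    obtain ⟨⟨a₀, ha₀⟩⟩ : Nonempty {z : Z // t • z = z} := by
      by_contra hcon
      rw [not_nonempty_iff] at hcon
      rw [Nat.card_of_isEmpty] at htf
      omega
    -- C_M(t)
    have hC : Nat.card {m : M // t * m * t⁻¹ = m} = 2 := by
      rw [← htf]
      refine Nat.card_congr (Equiv.ofBijective (fun m => ⟨(m.1 : A) • a₀, ?_⟩) ⟨?_, ?_⟩)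
      · have h1 := m.2
        rw [mul_inv_eq_iff_eq_mul] at h1
        rw [← mul_smul, h1, mul_smul, ha₀]
      · rintro ⟨m, hm⟩ ⟨m', hm'⟩ h
        have h1 : (m : A) • a₀ = (m' : A) • a₀ := congrArg Subtype.val h
        have h3 : (m' : A)⁻¹ * m = 1 := by
          apply hcfix _ _ a₀
          · rw [mul_smul, h1, inv_smul_smul]
          · intro x hx
            have h4 := M.mul_mem (M.inv_mem m'.2) m.2
            exact hMcomm _ h4 _ hx
        rw [inv_mul_eq_one] at h3
        exact Subtype.ext (Subtype.ext h3.symm)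
      · rintro ⟨z, hz⟩
        obtain ⟨m, hm, hmz⟩ := hMtr a₀ z
        refine ⟨⟨⟨m, hm⟩, ?_⟩, Subtype.ext hmz⟩
        have h3 : m⁻¹ * (t * m * t⁻¹) = 1 := by
          have h5 : t * m * t⁻¹ ∈ M := hMnormal.conj_mem m hm t
          apply hcfix _ _ a₀
          · have ht' : t⁻¹ • a₀ = a₀ := by rw [inv_smul_eq_iff, ha₀]
            rw [mul_smul, mul_smul, mul_smul, ht', hmz, hz, ← hmz, inv_smul_smul]
          · intro x hx
            exact hMcomm _ (M.mul_mem (M.inv_mem hm) h5) _ hx
        rw [inv_mul_eq_one] at h3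
        exact h3.symm
    -- p = 2
    have hp2 : p = 2 := by
      let C : Subgroup A := M ⊓ Subgroup.centralizer {t}
      have hCc : Nat.card C = 2 := by
        rw [← hC]
        refine Nat.card_congr ?_
        refine ⟨fun x => ⟨⟨x.1, x.2.1⟩, ?_⟩, fun m => ⟨m.1.1, m.1.2, ?_⟩, fun x => rfl, fun m => rfl⟩
        · have h1 := Subgroup.mem_centralizer_singleton_iff.mp x.2.2
          rw [mul_inv_eq_iff_eq_mul]; exact h1.symm
        · change (m.1 : A) ∈ Subgroup.centralizer {t}
          rw [Subgroup.mem_centralizer_singleton_iff]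
          have h1 := m.2
          rw [mul_inv_eq_iff_eq_mul] at h1
          exact h1.symm
      have hp2' : Fact (Nat.Prime 2) := ⟨Nat.prime_two⟩
      obtain ⟨x, hx⟩ := exists_prime_orderOf_dvd_card' (G := C) 2 (by rw [hCc])
      have h1 : x ^ p = 1 := Subtype.ext (hMp _ x.2.1)
      have h3 := orderOf_dvd_of_pow_eq_one h1
      rw [hx] at h3
      exact ((Nat.prime_dvd_prime_iff_eq Nat.prime_two hp).mp h3).symm
    subst hp2
    -- the order of M
    have hMpg : IsPGroup 2 M := by
      intro x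
      exact ⟨1, by rw [pow_one]; exact Subtype.ext (hMp _ x.2)⟩
    obtain ⟨m, hm⟩ := IsPGroup.iff_card.mp hMpg
    have hm3 : Odd m := by
      have h3F : Fact (Nat.Prime 3) := ⟨Nat.prime_three⟩
      have h1 : (MulAction.toPerm t : Perm Z) ^ 3 ^ 1 = 1 := by
        rw [pow_one]
        have : (MulAction.toPermHom A Z t) ^ 3 = 1 := by rw [← map_pow, ht3, map_one]
        exact this
      have h3 := count_fix (r := 3) (n := 1) _ h1
      have h4 : Nat.card {x // (MulAction.toPerm t : Perm Z) x = x} = 2 := htf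
      rw [h4, ← hMcard, hm] at h3
      exact odd_of_mod h3
    have hmge : 3 ≤ m := by
      by_contra hcon
      have h1 : m = 1 := by
        obtain ⟨k, hk⟩ := hm3
        omega
      rw [h1, pow_one] at hm
      omega
    -- the stabilizer of a₀
    let B : Subgroup A := stabilizer A a₀
    let ρ : B →* MulAut M := (MulAut.conjNormal (H := M)).comp B.subtype
    have hρ : Function.Injective ρ := by
      rw [← MonoidHom.ker_eq_bot_iff, eq_bot_iff]
      intro b hb
      rw [MonoidHom.mem_ker] at hb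
      rw [Subgroup.mem_bot]
      apply Subtype.ext
      apply hcfix _ _ a₀ b.2
      intro x hx
      have h1 : ρ b ⟨x, hx⟩ = ⟨x, hx⟩ := by rw [hb]; rfl
      have h3 : (b : A) * x * (b : A)⁻¹ = x := congrArg Subtype.val h1
      rw [mul_inv_eq_iff_eq_mul] at h3
      exact h3
    refine lin (V := M) (B := B) (fun x y => Subtype.ext (hMcomm _ x.2 _ y.2))
      (fun v => Subtype.ext (by have := hMp _ v.2; rw [pow_two] at this; exact this)) hm3 hmge hm ρ hρ
      (J.subgroupOf B) ?_ ?_
    · obtain ⟨b₀, hb₀⟩ := exists_ne a₀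
      have h1 := card_two h2 hb₀.symm
      have hJt : IsPretransitive J Z := isPretransitive_of_is_two_pretransitive
      have h3 : Nat.card J = Nat.card Z * Nat.card (stabilizer J a₀) := by
        rw [← index_stabilizer_of_transitive J a₀, Subgroup.index_mul_card]
      rw [h3, mul_assoc] at h1
      have h4 := Nat.eq_of_mul_eq_mul_left (by omega) h1
      have h5 : Nat.card (J.subgroupOf B) = Nat.card (stabilizer J a₀) := by
        refine Nat.card_congr ⟨fun x => ⟨⟨x.1.1, x.2⟩, x.1.2⟩, fun x => ⟨⟨x.1.1, x.2⟩, x.1.2⟩, fun x => rfl, fun x => rfl⟩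
      rw [h5, h4, ← hm, hMcard]
      exact Dvd.intro _ rfl
    · have h1 : J.relIndex B = J.index := by
        rw [← Subgroup.relIndex_sup_right]
        have h3 : B ⊔ J = ⊤ := by
          rw [eq_top_iff]
          intro x _
          have hJt : IsPretransitive J Z := isPretransitive_of_is_two_pretransitive
          obtain ⟨j, hj⟩ := exists_smul_eq J a₀ (x • a₀)
          have h4 : (j : A)⁻¹ * x ∈ B := by
            change ((j : A)⁻¹ * x) • a₀ = a₀
            rw [mul_smul, inv_smul_eq_iff]; exact hj.symm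
          have h5 : x = (j : A) * ((j : A)⁻¹ * x) := by group
          rw [h5, sup_comm]
          exact Subgroup.mul_mem_sup j.2 h4
        rw [h3, Subgroup.relIndex_top_right]
      change 2 ∣ J.relIndex B
      rw [h1]
      exact (by norm_num : 2 ∣ 6).trans h6
  · -- simple case
    have hc1 : ∀ a : A, (∀ m ∈ M, a * m = m * a) → a = 1 := by
      intro a ha
      have h1 : (MulAction.toPermHom A Z a) = 1 := by
        apply cent_triv (N := N) hprim hna
        intro n z
        change a • ((n : J) : A) • z = ((n : J) : A) • a • z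
        have h := ha ((n : J) : A) ⟨n, n.2, rfl⟩
        rw [← mul_smul, ← mul_smul, h]
      apply MulAction.toPerm_injective (α := A) (β := Z)
      rw [← map_one (MulAction.toPermHom A Z)] at h1
      exact h1
    have hMnormal : M.Normal := normal_of_min J M hMJ hMn hM1 hmin (fun a ha => by rw [hc1 a ha]; exact M.one_mem)
    have hCM : Subgroup.centralizer (M : Set A) = ⊥ := by
      rw [eq_bot_iff]
      intro a ha
      rw [Subgroup.mem_bot]
      apply hc1
      intro m hm
      exact (Subgroup.mem_centralizer_iff.mp ha m hm).symm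
    have hnM : Nontrivial M := eN.toEquiv.symm.nontrivial
    have hsM : IsSimpleGroup M := IsSimpleGroup.isSimpleGroup_of_surjective eN.toMonoidHom eN.surjective
    have h1 := Cfsg.Agent.H163.PG.card_dvd_mul_out M (MulEquiv.refl M) hCM
    have h3 : 6 * Nat.card M ∣ Nat.card A := by
      rw [← Subgroup.index_mul_card J]
      exact Nat.mul_dvd_mul h6 hMdJ
    have h4 : Nat.card M * 6 ∣ Nat.card M * Nat.card (Cfsg.Out M) := by
      rw [mul_comm _ 6]; exact h3.trans h1
    have h5 := Nat.dvd_of_mul_dvd_mul_left Nat.card_pos h4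
    refine hL1 M ?_ (fun h => h9 (h.trans hMdJ)) h5
    obtain ⟨x, y, hxy⟩ := hna
    exact ⟨eN x, eN y, fun h => hxy (eN.injective (by rw [map_mul, map_mul, h]))⟩

end Cfsg.Agent.H555.PSet
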