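/- helper555: lemma (T) for S3513 (modulo lemma (L1)) -/
import Cfsg.Agent.H555.PSet.TCore
import Cfsg.Agent.S0711

set_option autoImplicit false
set_option linter.unusedSectionVars false
set_option linter.unusedVariables false

namespace Cfsg.Agent.H555.PSet

open MulAction Equiv Equiv.Perm

universe u v

/-- prescribing the values on a `k`-set -/
theorem exists_ext {Y : Type*} [DecidableEq Y] (G : Subgroup (Perm Y)) {k : ℕ}
    (hG : IsMultiplyPretransitive G Y k) (T : Finset Y) (hT : T.card = k) (f : Y → Y)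
    (hf : Set.InjOn f T) : ∃ g ∈ G, ∀ a ∈ T, g a = f a := by
  let e : T ≃ Fin k := T.equivFinOfCardEq hT
  let x : Fin k ↪ Y := ⟨fun i => (e.symm i : Y), fun i j h => e.symm.injective (Subtype.ext h)⟩
  let y : Fin k ↪ Y := ⟨fun i => f (e.symm i : Y), fun i j h =>
    e.symm.injective (Subtype.ext (hf (e.symm i).2 (e.symm j).2 h))⟩
  obtain ⟨g, hg⟩ := hG.exists_smul_eq x y
  refine ⟨g, g.2, ?_⟩
  intro a ha
  have h1 := DFunLike.congr_fun hg (e ⟨a, ha⟩)
  have h2 : (g : Perm Y) ((e.symm (e ⟨a, ha⟩) : T) : Y) = f ((e.symm (e ⟨a, ha⟩) : T) : Y) := h1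
  rw [e.symm_apply_apply] at h2
  exact h2

/-- the setwise stabilizer -/
def setStab {Y : Type*} (G : Subgroup (Perm Y)) (S : Finset Y) : Subgroup (Perm Y) where
  carrier := {g | g ∈ G ∧ ∀ a, g a ∈ S ↔ a ∈ S}
  mul_mem' := by
    rintro g h ⟨hg, hg'⟩ ⟨hh, hh'⟩
    refine ⟨G.mul_mem hg hh, fun a => ?_⟩
    rw [Perm.mul_apply, hg', hh']
  one_mem' := ⟨G.one_mem, fun a => Iff.rfl⟩
  inv_mem' := by
    rintro g ⟨hg, hg'⟩
    refine ⟨G.inv_mem hg, fun a => ?_⟩
    have h := hg' (g⁻¹ a)
    rw [← Perm.mul_apply, mul_inv_cancel, Perm.one_apply] at h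
    exact h.symm

/-- the action of the setwise stabilizer on the complement -/
instance actOff {Y : Type*} (G : Subgroup (Perm Y)) (S : Finset Y) : MulAction (setStab G S) {y : Y // y ∉ S} where
  smul g z := ⟨(g : Perm Y) z.1, fun h => z.2 ((g.2.2 _).mp h)⟩
  one_smul z := rfl
  mul_smul g h z := rfl

theorem actOff_coe {Y : Type*} (G : Subgroup (Perm Y)) (S : Finset Y) (g : setStab G S) (z : {y : Y // y ∉ S}) :
    ((g • z : {y : Y // y ∉ S}) : Y) = (g : Perm Y) z := rfl

/-- the pointwise stabilizer in the setwise stabilizer -/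
def ptStab {Y : Type*} (G : Subgroup (Perm Y)) (S : Finset Y) : Subgroup (setStab G S) where
  carrier := {g | ∀ a ∈ S, (g : Perm Y) a = a}
  mul_mem' := by
    intro g h hg hh a ha
    change (g : Perm Y) ((h : Perm Y) a) = a
    rw [hh a ha, hg a ha]
  one_mem' := fun a ha => rfl
  inv_mem' := by
    intro g hg a ha
    change (g : Perm Y)⁻¹ a = a
    rw [Perm.inv_eq_iff_eq, hg a ha]

/-- the action on the set itself -/
def restr {Y : Type*} (G : Subgroup (Perm Y)) (S : Finset Y) : setStab G S →* Perm {y : Y // y ∈ S} where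
  toFun g := Equiv.Perm.subtypePerm (g : Perm Y) (fun a => g.2.2 a)
  map_one' := rfl
  map_mul' g h := rfl

theorem restr_coe {Y : Type*} (G : Subgroup (Perm Y)) (S : Finset Y) (g : setStab G S) (z : {y : Y // y ∈ S}) :
    ((restr G S g z : {y : Y // y ∈ S}) : Y) = (g : Perm Y) z := rfl

theorem ptStab_eq {Y : Type*} (G : Subgroup (Perm Y)) (S : Finset Y) : ptStab G S = (restr G S).ker := by
  ext g
  rw [MonoidHom.mem_ker]
  constructor
  · intro h
    ext z
    exact h z z.2
  · intro h a ha
    have := congrArg (fun σ : Perm {y : Y // y ∈ S} => ((σ ⟨a, ha⟩ : {y : Y // y ∈ S}) : Y)) h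
    exact this

theorem lemT' {Y : Type u} [Fintype Y] [DecidableEq Y]
    (hL1 : ∀ (M : Type u) [Group M] [Finite M] [IsSimpleGroup M], (∃ a b : M, a * b ≠ b * a) →
      ¬ 9 ∣ Nat.card M → ¬ 6 ∣ Nat.card (Cfsg.Out M))
    (G : Subgroup (Equiv.Perm Y))
    (hG : MulAction.IsMultiplyPretransitive G Y 5) (hY : 8 ≤ Fintype.card Y)
    (hA : ¬ alternatingGroup Y ≤ G) (S : Finset Y) (hS : S.card = 3)
    (t : Equiv.Perm Y) (ht : t ∈ G) (ht3 : t ^ 3 = 1) (htS : ∀ a ∈ S, t a ∈ S)
    (hfix : (Finset.univ.filter (fun a => a ∉ S ∧ t a = a)).card = 2)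
    (h9 : ¬ 9 ∣ Nat.card (fixingSubgroup G (S : Set Y))) : False := by
  classical
  have hG3 : IsMultiplyPretransitive G Y 3 :=
    isMultiplyPretransitive_of_le (n := 5) (by norm_num) (by
      rw [Nat.card_eq_fintype_card]; omega)
  have hfaith : FaithfulSMul (setStab G S) {y : Y // y ∉ S} := by
    constructor
    intro g h hgh
    by_contra hne
    have h1 : ((h : Perm Y)⁻¹ * (g : Perm Y)) ≠ 1 := by
      intro h2
      rw [inv_mul_eq_one] at h2
      exact hne (Subtype.ext h2.symm)
    have h2 : ((h : Perm Y)⁻¹ * (g : Perm Y)).support ⊆ S := by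
      intro y hy
      by_contra hyS
      rw [mem_support] at hy
      apply hy
      have h3 : (g : Perm Y) y = (h : Perm Y) y := congrArg Subtype.val (hgh ⟨y, hyS⟩)
      rw [Perm.mul_apply, h3, ← Perm.mul_apply, inv_mul_cancel, Perm.one_apply]
    apply hA
    exact (Cfsg.Agent.S0711.result G (k := 5) (by norm_num) (by omega) hG ((h : Perm Y)⁻¹ * (g : Perm Y))
      (G.mul_mem (G.inv_mem h.2.1) g.2.1) h1 (by
        have := Finset.card_le_card h2
        omega)).2
  have hJn : (ptStab G S).Normal := by rw [ptStab_eq]; infer_instance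
  have hidx : (ptStab G S).index = 6 := by
    rw [ptStab_eq, Subgroup.index_ker]
    have hsurj : (restr G S).range = ⊤ := by
      rw [eq_top_iff]
      intro σ _
      let f : Y → Y := fun a => if h : a ∈ S then (σ ⟨a, h⟩ : Y) else a
      have hf : ∀ a (h : a ∈ S), f a = (σ ⟨a, h⟩ : Y) := fun a h => dif_pos h
      obtain ⟨g, hg, hgf⟩ := exists_ext G hG3 S hS f (by
        intro a ha b hb hab
        rw [hf a ha, hf b hb] at hab
        have h1 := σ.injective (Subtype.ext hab)
        exact congrArg Subtype.val h1)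
      have hgS : ∀ a ∈ S, g a ∈ S := by
        intro a ha
        rw [hgf a ha, hf a ha]
        exact (σ ⟨a, ha⟩).2
      have hg1 : g ∈ setStab G S := by
        refine ⟨hg, fun a => ⟨fun h => ?_, hgS a⟩⟩
        have h1 : S.map g.toEmbedding = S := by
          apply Finset.eq_of_subset_of_card_le
          · intro y hy
            rw [Finset.mem_map] at hy
            obtain ⟨x, hx, rfl⟩ := hy
            exact hgS x hx
          · rw [Finset.card_map]
        rw [← h1, Finset.mem_map] at h
        obtain ⟨x, hx, hxa⟩ := h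
        rw [← g.injective hxa]; exact hx
      refine ⟨⟨g, hg1⟩, ?_⟩
      ext z
      rw [restr_coe]
      change g z = _
      rw [hgf z z.2, hf z z.2]
    rw [hsurj, Subgroup.card_top, Nat.card_perm, Nat.card_eq_fintype_card, Fintype.card_coe, hS]
    rfl
  have h2 : IsMultiplyPretransitive (ptStab G S) {y : Y // y ∉ S} 2 := by
    rw [is_two_pretransitive_iff]
    intro a b c d hab hcd
    have hab' : (a : Y) ≠ b := fun h => hab (Subtype.ext h)
    have hcd' : (c : Y) ≠ d := fun h => hcd (Subtype.ext h)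
    let f : Y → Y := fun x => if x ∈ S then x else if x = a then c else d
    have hfS : ∀ x ∈ S, f x = x := fun x hx => if_pos hx
    have hfa : f a = c := by
      change (if (a : Y) ∈ S then (a : Y) else if (a : Y) = a then (c : Y) else d) = c
      rw [if_neg a.2, if_pos rfl]
    have hfb : f b = d := by
      change (if (b : Y) ∈ S then (b : Y) else if (b : Y) = a then (c : Y) else d) = d
      rw [if_neg b.2, if_neg (Ne.symm hab')]
    obtain ⟨g, hg, hgf⟩ := exists_ext G hG (S ∪ {(a : Y), (b : Y)}) (by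
      rw [Finset.card_union_of_disjoint, hS, Finset.card_pair hab']
      rw [Finset.disjoint_left]
      intro x hx hx'
      simp only [Finset.mem_insert, Finset.mem_singleton] at hx'
      rcases hx' with h | h
      · exact a.2 (h ▸ hx)
      · exact b.2 (h ▸ hx)) f (by
      intro x hx y hy hxy
      simp only [Finset.coe_union, Finset.coe_insert, Finset.coe_singleton, Set.mem_union, Finset.mem_coe,
        Set.mem_insert_iff, Set.mem_singleton_iff] at hx hy
      rcases hx with hx | hx | hx <;> rcases hy with hy | hy | hy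
      · rw [hfS x hx, hfS y hy] at hxy; exact hxy
      · rw [hfS x hx, hy, hfa] at hxy; exact absurd (hxy ▸ hx) c.2
      · rw [hfS x hx, hy, hfb] at hxy; exact absurd (hxy ▸ hx) d.2
      · rw [hfS y hy, hx, hfa] at hxy; exact absurd (hxy ▸ hy) c.2
      · rw [hx, hy]
      · rw [hx, hy, hfa, hfb] at hxy; exact absurd hxy hcd'
      · rw [hfS y hy, hx, hfb] at hxy; exact absurd (hxy ▸ hy) d.2
      · rw [hx, hy, hfa, hfb] at hxy; exact absurd hxy.symm hcd'
      · rw [hx, hy])
    have hgS : ∀ x ∈ S, g x = x := fun x hx => by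
      rw [hgf x (Finset.mem_union_left _ hx), hfS x hx]
    have hg1 : g ∈ setStab G S := by
      refine ⟨hg, fun x => ⟨fun h => ?_, fun h => by rw [hgS x h]; exact h⟩⟩
      have h1 := hgS _ h
      rw [← g.injective h1]; exact h
    refine ⟨⟨⟨g, hg1⟩, hgS⟩, Subtype.ext ?_, Subtype.ext ?_⟩
    · change g a = c
      rw [hgf a (Finset.mem_union_right _ (by simp)), hfa]
    · change g b = d
      rw [hgf b (Finset.mem_union_right _ (by simp)), hfb]
  have ht1 : t ∈ setStab G S := by
    refine ⟨ht, fun a => ⟨fun h => ?_, htS a⟩⟩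
    have h1 := htS _ (htS _ h)
    have h3 : t (t (t a)) = a := by
      have : (t ^ 3) a = a := by rw [ht3]; rfl
      exact this
    rw [h3] at h1
    exact h1
  refine T_core (A := setStab G S) (Z := {y : Y // y ∉ S}) hL1 (ptStab G S) h2 ?_ ?_ ?_ ⟨t, ht1⟩ ?_ ?_
  · rw [Nat.card_eq_fintype_card, Fintype.card_subtype_compl, Fintype.card_coe, hS]
    omega
  · rw [hidx]
  · have h1 : Nat.card (ptStab G S) = Nat.card (fixingSubgroup G (S : Set Y)) := by
      refine Nat.card_congr ⟨fun g => ⟨⟨g.1.1, g.1.2.1⟩, ?_⟩, fun g => ⟨⟨g.1.1, g.1.2, ?_⟩, ?_⟩,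
        fun x => rfl, fun x => rfl⟩
      · rw [mem_fixingSubgroup_iff]
        intro y hy
        exact g.2 y hy
      · intro a
        have h2 := (mem_fixingSubgroup_iff G).mp g.2
        constructor
        · intro h
          have h3 : (g.1 : Perm Y) ((g.1 : Perm Y) a) = (g.1 : Perm Y) a := h2 _ h
          have h4 := (g.1 : Perm Y).injective h3
          rw [← h4]; exact h
        · intro h
          have h3 : (g.1 : Perm Y) a = a := h2 _ h
          rw [h3]; exact h
      · intro a ha
        exact (mem_fixingSubgroup_iff G).mp g.2 a ha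
    rw [h1]; exact h9
  · exact Subtype.ext ht3
  · rw [← hfix, ← Fintype.card_subtype, ← Nat.card_eq_fintype_card]
    refine Nat.card_congr ⟨fun z => ⟨z.1.1, z.1.2, congrArg Subtype.val z.2⟩,
      fun y => ⟨⟨y.1, y.2.1⟩, Subtype.ext y.2.2⟩, fun x => rfl, fun x => rfl⟩

end Cfsg.Agent.H555.PSet
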