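/- helper555: lemma (U) for S3513 -/
import Cfsg.Agent.H555.PSet.Gen
import Cfsg.Agent.S0700
import Cfsg.Agent.S0699
import Cfsg.Agent.S0806
import Cfsg.Agent.H483.SylFour
import Cfsg.Agent.ClassicalGeometry.PSL2Basic

set_option autoImplicit false

namespace Cfsg.Agent.H555.PSet

open MulAction Equiv Equiv.Perm

/-- the order of a 3-transitive group -/
theorem card_three {G Ω : Type*} [Group G] [MulAction G Ω] [Finite G] [Finite Ω]
    (h3 : IsMultiplyPretransitive G Ω 3) (hn : 3 ≤ Nat.card Ω) :
    Nat.card Ω * (Nat.card Ω - 1) * (Nat.card Ω - 2) ∣ Nat.card G := by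
  classical
  have := Fintype.ofFinite Ω
  obtain ⟨s, hs⟩ : ∃ s : Finset Ω, s.card = 3 := by
    obtain ⟨s, _, hs⟩ := Finset.exists_subset_card_eq (s := (Finset.univ : Finset Ω)) (n := 3)
      (by rw [Finset.card_univ, ← Nat.card_eq_fintype_card]; exact hn)
    exact ⟨s, hs⟩
  have h1 := h3.index_of_fixingSubgroup_mul (s := (s : Set Ω)) (by rw [Set.ncard_coe_finset, hs])
  have h2 : (Nat.card Ω).factorial =
      Nat.card Ω * (Nat.card Ω - 1) * (Nat.card Ω - 2) * (Nat.card Ω - 3).factorial := by
    obtain ⟨k, hk⟩ : ∃ k, Nat.card Ω = k + 3 := ⟨Nat.card Ω - 3, by omega⟩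
    rw [hk, show k + 3 - 1 = k + 2 by omega, show k + 3 - 2 = k + 1 by omega, show k + 3 - 3 = k by omega]
    simp only [Nat.factorial_succ]; ring
  rw [h2] at h1
  have h3 := Nat.eq_of_mul_eq_mul_right (Nat.factorial_pos _) h1
  rw [← h3]
  exact Subgroup.index_dvd_card _

theorem lemU {Y : Type*} [Fintype Y] [DecidableEq Y] (G : Subgroup (Equiv.Perm Y))
    (hG : MulAction.IsMultiplyPretransitive G Y 3) (hodd : Odd (Fintype.card Y))
    (h7 : 7 ≤ Fintype.card Y) (h8 : ¬ 8 ∣ Nat.card G) : False := by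
  classical
  have hnt : Nontrivial Y := by
    rw [← Fintype.one_lt_card_iff_nontrivial]; omega
  have hG2 : IsMultiplyPretransitive G Y 2 :=
    isMultiplyPretransitive_of_le (n := 3) (by norm_num) (by
      rw [Nat.card_eq_fintype_card]; omega)
  have hG1 : ∃ x : G, x ≠ 1 := by
    obtain ⟨a, b, hab⟩ := exists_pair_ne Y
    obtain ⟨g, hg, _⟩ := AltTwo.two_of hG2 hab hab.symm
    exact ⟨g, fun h => hab (by rw [← hg, h, one_smul])⟩
  obtain ⟨N, hNn, hN1, hNm⟩ := exists_min_normal hG1
  have hN3 := Cfsg.Agent.S0699.result G hodd (by omega) hG N hN1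
  have hyc : Nat.card Y = Fintype.card Y := Nat.card_eq_fintype_card
  have hdvd := card_three hN3 (by omega)
  rw [hyc] at hdvd
  have hNt : IsPretransitive N Y := AltTwo.transitive_of_normal hG2 N hN1
  obtain ⟨a₀⟩ : Nonempty Y := inferInstance
  have hNa : ¬ IsMulCommutative N := by
    intro hNab
    have hNc : ∀ x y : N, x * y = y * x := fun x y => hNab.is_comm.comm x y
    have hNcard : Nat.card N = Fintype.card Y := by rw [comm_card hNc a₀, hyc]
    rw [hNcard] at hdvd
    have h9 := Nat.le_of_dvd (by omega) hdvd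
    generalize Fintype.card Y = y at *
    obtain ⟨k, rfl⟩ : ∃ k, y = k + 7 := ⟨y - 7, by omega⟩
    rw [show k + 7 - 1 = k + 6 by omega, show k + 7 - 2 = k + 5 by omega] at h9
    have h10 : (k + 7) * 1 * 2 ≤ (k + 7) * (k + 6) * (k + 5) :=
      Nat.mul_le_mul (Nat.mul_le_mul le_rfl (by omega)) (by omega)
    omega
  have hs : IsSimpleGroup N := by
    rcases Cfsg.Agent.S0700.result G hG2 N hN1 hNm with ⟨h, _⟩ | ⟨h, _⟩
    · exact absurd h hNa
    · exact h
  have hNG : Nat.card N ∣ Nat.card G := Subgroup.card_subgroup_dvd_card N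
  have heven : Even (Nat.card N) := by
    obtain ⟨k, hk⟩ := hodd
    obtain ⟨l, hl⟩ := hdvd
    rw [hl, hk, show 2 * k + 1 - 1 = 2 * k by omega]
    exact ⟨(2 * k + 1) * k * (2 * k + 1 - 2) * l, by ring⟩
  obtain ⟨F, _, _, hF1, hF2, ⟨e⟩⟩ := H483.SylFour.exists_psl hNa heven (fun h => h8 (h.trans hNG))
  have hcard := Cfsg.Agent.ClassicalGeometry.PSL2Basic.card_PSL2_odd (F := F) hF1
  rw [← Nat.card_congr e.toEquiv] at hcard
  -- index of the point stabilizer
  have hidx : (stabilizer N a₀).index = Fintype.card Y := by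
    rw [index_stabilizer_of_transitive, hyc]
  generalize hq : Fintype.card F = q at *
  have h8N : ¬ 8 ∣ Nat.card N := fun h => h8 (h.trans hNG)
  have hq1 : q ^ 2 - 1 = (q - 1) * (q + 1) := by
    obtain ⟨k, rfl⟩ : ∃ k, q = k + 1 := ⟨q - 1, by omega⟩
    rw [show k + 1 - 1 = k by omega]
    have : (k + 1) ^ 2 = k * (k + 1 + 1) + 1 := by ring
    omega
  have hpos : 0 < Nat.card N := Nat.card_pos
  have hle := Nat.le_of_dvd hpos hdvd
  have hY5 : 7 * 6 * 5 ≤ Fintype.card Y * (Fintype.card Y - 1) * (Fintype.card Y - 2) :=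
    Nat.mul_le_mul (Nat.mul_le_mul h7 (by omega)) (by omega)
  by_cases hqs : q ∈ ({2, 3, 5, 7, 9, 11} : Finset ℕ)
  · simp only [Finset.mem_insert, Finset.mem_singleton] at hqs
    rcases hqs with rfl | rfl | rfl | rfl | rfl | rfl
    · omega
    · omega
    · have e5 : 5 * (5 ^ 2 - 1) = 120 := by norm_num
      rw [e5] at hcard
      omega
    · apply h8N
      have e7 : 7 * (7 ^ 2 - 1) = 336 := by norm_num
      rw [e7] at hcard
      have : Nat.card N = 168 := by omega
      rw [this]; norm_num
    · apply h8N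
      have e9 : 9 * (9 ^ 2 - 1) = 720 := by norm_num
      rw [e9] at hcard
      have : Nat.card N = 360 := by omega
      rw [this]; norm_num
    · have e11 : 11 * (11 ^ 2 - 1) = 1320 := by norm_num
      rw [e11] at hcard
      have h660 : Nat.card N = 660 := by omega
      rw [h660] at hdvd hle
      generalize Fintype.card Y = y at *
      have hy : y ≤ 10 := by
        by_contra hcon
        push Not at hcon
        have : 11 * 10 * 9 ≤ y * (y - 1) * (y - 2) :=
          Nat.mul_le_mul (Nat.mul_le_mul (by omega) (by omega)) (by omega)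
        omega
      interval_cases y
      · revert hdvd; decide
      · revert hodd; decide
      · revert hdvd; decide
      · revert hodd; decide
  · have h1 := (Cfsg.Agent.S0806.result (F := F) (q := q) hq hqs).1 ((stabilizer N a₀).map e.toMonoidHom) (by
      intro htop
      have h2 : ((stabilizer N a₀).map e.toMonoidHom).index = (stabilizer N a₀).index :=
        Subgroup.index_map_equiv _ e
      rw [htop, Subgroup.index_top, hidx] at h2
      omega)
    have h2 : ((stabilizer N a₀).map e.toMonoidHom).index = (stabilizer N a₀).index :=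
      Subgroup.index_map_equiv _ e
    rw [h2, hidx] at h1
    have h3 : (q + 1) * q * (q - 1) ≤ Fintype.card Y * (Fintype.card Y - 1) * (Fintype.card Y - 2) :=
      Nat.mul_le_mul (Nat.mul_le_mul h1 (by omega)) (by omega)
    rw [hq1] at hcard
    have h4 : (q + 1) * q * (q - 1) = Nat.card N * 2 := by rw [hcard]; ring
    omega

end Cfsg.Agent.H555.PSet
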