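/- helper555: lemma (V) for S3513 -/
import Cfsg.Agent.H555.PSet.Gen
import Cfsg.Agent.S0700
import Cfsg.Agent.S3682

set_option autoImplicit false

namespace Cfsg.Agent.H555.PSet

open MulAction Equiv Equiv.Perm

/-- a set of size 3 stabilised by an involution that fixes at most one point -/
theorem three_struct {Y : Type*} [DecidableEq Y] {t : Perm Y} (ht2 : ∀ x, t (t x) = x)
    {D : Finset Y} (hD : D.card = 3)
    (hs : ∀ a ∈ D, t a ∈ D) {x : Y} (hx : x ∈ D) (hxt : t x ≠ x) :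
    ∃ z, t z = z ∧ D = {x, t x, z} := by
  have h1 : {x, t x} ⊆ D := by
    intro w hw
    simp only [Finset.mem_insert, Finset.mem_singleton] at hw
    rcases hw with rfl | rfl
    · exact hx
    · exact hs _ hx
  have h2 : ({x, t x} : Finset Y).card = 2 := Finset.card_pair (Ne.symm hxt)
  have h3 : (D \ {x, t x}).card = 1 := by
    rw [Finset.card_sdiff_of_subset h1, hD, h2]
  obtain ⟨z, hz⟩ := Finset.card_eq_one.mp h3
  have hz1 : z ∈ D \ {x, t x} := by rw [hz]; exact Finset.mem_singleton_self _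
  rw [Finset.mem_sdiff] at hz1
  have hz2 : z ≠ x ∧ z ≠ t x := by
    have := hz1.2
    simp only [Finset.mem_insert, Finset.mem_singleton, not_or] at this
    exact this
  have hD' : D = {x, t x, z} := by
    rw [← Finset.union_sdiff_of_subset h1, hz]
    ext w; simp [or_assoc]
  refine ⟨z, ?_, hD'⟩
  have h4 := hs z hz1.1
  rw [hD'] at h4
  simp only [Finset.mem_insert, Finset.mem_singleton] at h4
  rcases h4 with h | h | h
  · exfalso; apply hz2.2; rw [← h, ht2]
  · exfalso; exact hz2.1 (t.injective h)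
  · exact h

theorem lemV {Y : Type*} [Fintype Y] [DecidableEq Y] (G : Subgroup (Equiv.Perm Y))
    (hG : MulAction.IsMultiplyPretransitive G Y 2) (h4 : ¬ 4 ∣ Nat.card G)
    (hodd : Odd (Fintype.card Y)) (hY : 3 ≤ Fintype.card Y)
    (h3 : ∀ D : Finset Y, D.card = 3 → ∃ t ∈ G, t ≠ 1 ∧ t ^ 2 = 1 ∧ ∀ a ∈ D, t a ∈ D) :
    Fintype.card Y = 3 := by
  classical
  have hfaith : FaithfulSMul G Y := inferInstance
  -- two points
  have hnt : Nontrivial Y := by
    rw [← Fintype.one_lt_card_iff_nontrivial]; omega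
  -- minimal normal subgroup
  have hG1 : ∃ x : G, x ≠ 1 := by
    obtain ⟨a, b, hab⟩ := exists_pair_ne Y
    obtain ⟨g, hg, _⟩ := AltTwo.two_of hG hab hab.symm
    exact ⟨g, fun h => hab (by rw [← hg, h, one_smul])⟩
  obtain ⟨N, hNn, hN1, hNm⟩ := exists_min_normal hG1
  have hNab : IsMulCommutative N := by
    by_contra hna
    rcases Cfsg.Agent.S0700.result G hG N hN1 hNm with ⟨h, _⟩ | ⟨h, _⟩
    · exact hna h
    · apply h4
      exact (Cfsg.Agent.S3682.four_dvd_card hna).trans (Subgroup.card_subgroup_dvd_card N)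
  have hNc : ∀ x y : N, x * y = y * x := fun x y => hNab.is_comm.comm x y
  have hNt : IsPretransitive N Y := AltTwo.transitive_of_normal hG N hN1
  obtain ⟨a₀⟩ : Nonempty Y := inferInstance
  have hNcard : Nat.card N = Fintype.card Y := by rw [comm_card hNc a₀, Nat.card_eq_fintype_card]
  -- fixing two points
  have hfix2 : ∀ t ∈ G, t ^ 2 = 1 → t ≠ 1 → ∀ x y, t x = x → t y = y → x = y := by
    intro t ht ht2 ht1 x y hx hy
    by_contra hxy
    apply h4
    have h5 := card_two hG hxy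
    have h6 : 2 ∣ Nat.card (stabilizer G (x, y)) := by
      have hm : (⟨t, ht⟩ : G) ∈ stabilizer G (x, y) := Prod.ext hx hy
      have : orderOf (⟨⟨t, ht⟩, hm⟩ : stabilizer G (x, y)) = 2 := by
        rw [← Subgroup.orderOf_coe, ← Subgroup.orderOf_coe]
        exact orderOf_eq_prime ht2 ht1
      rw [← this]
      exact orderOf_dvd_natCard _
    rw [h5, Nat.card_eq_fintype_card (α := Y)]
    obtain ⟨k, hk⟩ := hodd
    obtain ⟨l, hl⟩ := h6
    rw [hk, hl]
    exact ⟨(2 * k + 1) * (k * l), by simp; ring⟩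
  -- the involutions
  let I : Finset (Perm Y) := Finset.univ.filter (fun t => t ∈ G ∧ t ≠ 1 ∧ t ^ 2 = 1)
  have hfp : ∀ t ∈ G, t ^ 2 = 1 → ∃ a : Y, t a = a := by
    intro t ht ht2
    have hp : Fact (Nat.Prime 2) := ⟨Nat.prime_two⟩
    exact Equiv.Perm.exists_fixed_point_of_prime (p := 2) (n := 1)
      (by rw [Nat.two_dvd_ne_zero]; exact Nat.odd_iff.mp hodd) (σ := t) (by rw [pow_one]; exact ht2)
  have hinv : ∀ t, (ht : t ∈ G) → t ≠ 1 → t ^ 2 = 1 →
      ∀ n : N, (MulAut.conjNormal (⟨t, ht⟩ : G) : MulAut N) n = n⁻¹ := by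
    intro t ht ht1 ht2 n
    obtain ⟨a, ha⟩ := hfp t ht ht2
    let cj : MulAut N := MulAut.conjNormal (⟨t, ht⟩ : G)
    have hcjcj : ∀ n : N, cj (cj n) = n := by
      intro n
      have h5 : cj * cj = 1 := by
        change MulAut.conjNormal (⟨t, ht⟩ : G) * MulAut.conjNormal (⟨t, ht⟩ : G) = 1
        rw [← map_mul]
        have : (⟨t, ht⟩ : G) * ⟨t, ht⟩ = 1 := Subtype.ext (by rw [← pow_two] at *; exact ht2)
        rw [this, map_one]
      exact DFunLike.congr_fun h5 n
    have hcjf : ∀ n : N, cj n = n → n = 1 := by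
      intro n hn
      have h5 : (⟨t, ht⟩ : G) * (n : G) * (⟨t, ht⟩ : G)⁻¹ = n := congrArg Subtype.val hn
      rw [mul_inv_eq_iff_eq_mul] at h5
      have h6 : t ((n : G) • a) = (n : G) • a := by
        have h7 : ((⟨t, ht⟩ : G) * (n : G)) • a = ((n : G) * ⟨t, ht⟩) • a := by rw [h5]
        rw [mul_smul, mul_smul] at h7
        have h8 : (⟨t, ht⟩ : G) • a = a := ha
        rw [h8] at h7
        exact h7
      have h7 := hfix2 t ht ht2 ht1 _ _ h6 ha
      exact comm_semiregular hNc (a := a) h7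
    have hsurj : Function.Surjective (fun k : N => k⁻¹ * cj k) := by
      apply Finite.surjective_of_injective
      intro k l hkl
      have hkl' : k⁻¹ * cj k = l⁻¹ * cj l := hkl
      have h5 : cj (k * l⁻¹) = k * l⁻¹ := by
        rw [map_mul, map_inv, mul_inv_eq_iff_eq_mul]
        have h6 : cj k = k * (l⁻¹ * cj l) := by rw [← hkl', mul_inv_cancel_left]
        rw [h6, mul_assoc]
      have h6 := hcjf _ h5
      rw [mul_inv_eq_one] at h6
      exact h6
    obtain ⟨k, hk⟩ := hsurj n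
    have hk' : k⁻¹ * cj k = n := hk
    change cj n = n⁻¹
    rw [← hk', map_mul, map_inv, hcjcj, mul_inv_rev, inv_inv]
  have hI : I.card ≤ Fintype.card Y := by
    rw [← Finset.card_univ]
    apply Finset.card_le_card_of_injOn (fun t => t a₀) (fun _ _ => Finset.mem_coe.mpr (Finset.mem_univ _))
    intro t ht t' ht' htt
    have htt' : t a₀ = t' a₀ := htt
    simp only [I, Finset.coe_filter, Finset.mem_univ, true_and, Set.mem_ofPred_eq] at ht ht'
    have hc : ∀ n : N, (⟨t, ht.1⟩ : G)⁻¹ * ⟨t', ht'.1⟩ * n = n * ((⟨t, ht.1⟩ : G)⁻¹ * ⟨t', ht'.1⟩) := by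
      intro n
      have h5 : (⟨t, ht.1⟩ : G) * n * (⟨t, ht.1⟩ : G)⁻¹ = (⟨t', ht'.1⟩ : G) * n * (⟨t', ht'.1⟩ : G)⁻¹ :=
        congrArg Subtype.val ((hinv t ht.1 ht.2.1 ht.2.2 n).trans (hinv t' ht'.1 ht'.2.1 ht'.2.2 n).symm)
      rw [mul_inv_eq_iff_eq_mul] at h5
      have h6 : (n : G) = (⟨t, ht.1⟩ : G)⁻¹ * ((⟨t', ht'.1⟩ : G) * n * (⟨t', ht'.1⟩ : G)⁻¹ * ⟨t, ht.1⟩) := by
        rw [← h5, inv_mul_cancel_left]
      calc (⟨t, ht.1⟩ : G)⁻¹ * ⟨t', ht'.1⟩ * n
          = ((⟨t, ht.1⟩ : G)⁻¹ * ((⟨t', ht'.1⟩ : G) * n * (⟨t', ht'.1⟩ : G)⁻¹ * ⟨t, ht.1⟩)) *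
            ((⟨t, ht.1⟩ : G)⁻¹ * ⟨t', ht'.1⟩) := by group
        _ = n * ((⟨t, ht.1⟩ : G)⁻¹ * ⟨t', ht'.1⟩) := by rw [← h6]
    have h1 : (⟨t, ht.1⟩ : G)⁻¹ * ⟨t', ht'.1⟩ = 1 := by
      apply FaithfulSMul.eq_of_smul_eq_smul (α := Y)
      intro b
      obtain ⟨n, rfl⟩ := hNt.exists_smul_eq a₀ b
      have h7 : ((⟨t, ht.1⟩ : G)⁻¹ * ⟨t', ht'.1⟩) • a₀ = a₀ := by
        rw [mul_smul, inv_smul_eq_iff]; exact htt'.symm
      change ((⟨t, ht.1⟩ : G)⁻¹ * ⟨t', ht'.1⟩) • ((n : G) • a₀) = (1 : G) • ((n : G) • a₀)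
      rw [← mul_smul, hc n, mul_smul, h7, one_smul]
    rw [inv_mul_eq_one] at h1
    exact congrArg Subtype.val h1
  -- the count
  choose! τ hτ using h3
  let E : Finset (Finset Y) := Finset.powersetCard 3 Finset.univ
  have hE : ∀ D ∈ E, D.card = 3 := fun D hD => (Finset.mem_powersetCard.mp hD).2
  let B : Finset Y → Finset (Perm Y × Y) := fun D => (D.filter (fun x => τ D x ≠ x)).image (fun x => (τ D, x))
  have hsq : ∀ D ∈ E, ∀ x, τ D (τ D x) = x := by
    intro D hD x
    have h5 := (hτ D (hE D hD)).2.2.1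
    rw [pow_two] at h5
    exact DFunLike.congr_fun h5 x
  have hu : ∀ D ∈ E, ∀ x y, τ D x = x → τ D y = y → x = y := by
    intro D hD
    obtain ⟨h5, h6, h7, h8⟩ := hτ D (hE D hD)
    exact hfix2 _ h5 h7 h6
  have hst : ∀ D ∈ E, ∀ x ∈ D, τ D x ≠ x → ∃ z, τ D z = z ∧ D = {x, τ D x, z} := by
    intro D hD x hx hxt
    exact three_struct (hsq D hD) (hE D hD) (hτ D (hE D hD)).2.2.2 hx hxt
  have hB2 : ∀ D ∈ E, (B D).card = 2 := by
    intro D hD
    rw [Finset.card_image_of_injective _ (fun x y h => congrArg Prod.snd h)]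
    obtain ⟨x, hx, hxt⟩ : ∃ x ∈ D, τ D x ≠ x := by
      by_contra hcon
      push Not at hcon
      have h5 : 1 < D.card := by rw [hE D hD]; norm_num
      obtain ⟨x, hx, y, hy, hxy⟩ := Finset.one_lt_card.mp h5
      exact hxy (hu D hD x y (hcon x hx) (hcon y hy))
    obtain ⟨z, hz, hDz⟩ := hst D hD x hx hxt
    have h5 : D.filter (fun x => τ D x ≠ x) = {x, τ D x} := by
      ext w
      simp only [Finset.mem_filter, Finset.mem_insert, Finset.mem_singleton]
      constructor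
      · rintro ⟨hw, hwt⟩
        rw [hDz] at hw
        simp only [Finset.mem_insert, Finset.mem_singleton] at hw
        rcases hw with h | h | h
        · exact Or.inl h
        · exact Or.inr h
        · exfalso; apply hwt; rw [h]; exact hz
      · rintro (h | h)
        · rw [h]; exact ⟨hx, hxt⟩
        · rw [h]
          refine ⟨(hτ D (hE D hD)).2.2.2 x hx, ?_⟩
          rw [hsq D hD]; exact Ne.symm hxt
    rw [h5, Finset.card_pair (Ne.symm hxt)]
  have hdis : ∀ D ∈ E, ∀ D' ∈ E, D ≠ D' → Disjoint (B D) (B D') := by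
    intro D hD D' hD' hne
    rw [Finset.disjoint_left]
    rintro ⟨t, x⟩ h5 h6
    apply hne
    simp only [B, Finset.mem_image, Finset.mem_filter, Prod.mk.injEq] at h5 h6
    obtain ⟨x1, ⟨hx1, hx2⟩, hx3, rfl⟩ := h5
    obtain ⟨x2, ⟨hy1, hy2⟩, hy3, rfl⟩ := h6
    obtain ⟨z, hz, hDz⟩ := hst D hD _ hx1 hx2
    obtain ⟨z', hz', hDz'⟩ := hst D' hD' _ hy1 hy2
    rw [hx3] at hz hDz
    rw [hy3] at hz' hDz'
    have h7 : z = z' := by
      have := hu D hD z z' (by rw [hx3]; exact hz) (by rw [hx3]; exact hz')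
      exact this
    rw [hDz, hDz', h7]
  have hcnt : E.card * 2 ≤ Fintype.card Y * (Fintype.card Y - 1) := by
    have h5 : (E.biUnion B).card = E.card * 2 := by
      rw [Finset.card_biUnion hdis, Finset.sum_const_nat hB2]
    have h6 : E.biUnion B ⊆ I.biUnion (fun t => (Finset.univ.filter (fun x => t x ≠ x)).image (fun x => (t, x))) := by
      intro p hp
      rw [Finset.mem_biUnion] at hp
      obtain ⟨D, hD, hpD⟩ := hp
      rw [Finset.mem_biUnion]
      simp only [B, Finset.mem_image, Finset.mem_filter] at hpD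
      obtain ⟨x, ⟨hx1, hx2⟩, rfl⟩ := hpD
      obtain ⟨h5, h6, h7, h8⟩ := hτ D (hE D hD)
      refine ⟨τ D, ?_, ?_⟩
      · simp only [I, Finset.mem_filter, Finset.mem_univ, true_and]
        exact ⟨h5, h6, h7⟩
      · rw [Finset.mem_image]
        exact ⟨x, by simp only [Finset.mem_filter, Finset.mem_univ, true_and]; exact hx2, rfl⟩
    have h7 : (I.biUnion (fun t => (Finset.univ.filter (fun x => t x ≠ x)).image (fun x => (t, x)))).card ≤
        I.card * (Fintype.card Y - 1) := by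
      apply Finset.card_biUnion_le_card_mul
      intro t ht
      simp only [I, Finset.mem_filter, Finset.mem_univ, true_and] at ht
      refine Finset.card_image_le.trans ?_
      obtain ⟨a, ha⟩ := hfp t ht.1 ht.2.2
      have h8 : (Finset.univ.filter (fun x => t x ≠ x)) ⊆ Finset.univ.erase a := by
        intro x hx
        rw [Finset.mem_filter] at hx
        rw [Finset.mem_erase]
        exact ⟨fun h => hx.2 (by rw [h]; exact ha), Finset.mem_univ _⟩
      refine (Finset.card_le_card h8).trans ?_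
      rw [Finset.card_erase_of_mem (Finset.mem_univ _), Finset.card_univ]
    rw [← h5]
    exact (Finset.card_le_card h6).trans (h7.trans (Nat.mul_le_mul_right _ hI))
  have hEc : E.card = (Fintype.card Y).choose 3 := by
    rw [Finset.card_powersetCard, Finset.card_univ]
  rw [hEc] at hcnt
  have h5y : ¬ Fintype.card Y = 5 := by
    intro h5
    apply h4
    obtain ⟨a, b, hab⟩ := exists_pair_ne Y
    rw [card_two hG hab, Nat.card_eq_fintype_card (α := Y), h5]
    exact ⟨5 * Nat.card (stabilizer G (a, b)), by ring⟩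
  generalize Fintype.card Y = y at *
  obtain ⟨k, rfl⟩ : ∃ k, y = k + 3 := ⟨y - 3, by omega⟩
  have h6 : (k + 3).choose 3 * 6 = (k + 3) * (k + 2) * (k + 1) := by
    have h7 : (k + 3).descFactorial 3 = Nat.factorial 3 * (k + 3).choose 3 := Nat.descFactorial_eq_factorial_mul_choose _ _
    have h8 : (k + 3).descFactorial 3 = (k + 3) * (k + 2) * (k + 1) := by
      simp [Nat.descFactorial_succ]; ring
    have h9 : Nat.factorial 3 = 6 := rfl
    rw [h9] at h7
    omega
  have h7 : (k + 3 - 1) = k + 2 := by omega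
  rw [h7] at hcnt
  have h8 : (k + 3) * (k + 2) * (k + 1) ≤ (k + 3) * (k + 2) * 3 := by
    rw [← h6]
    nlinarith
  have h9 : k + 1 ≤ 3 := Nat.le_of_mul_le_mul_left h8 (by positivity)
  obtain ⟨l, hl⟩ := hodd
  omega

end Cfsg.Agent.H555.PSet
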